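/-
S2858, claim (N), step (1): the hypothesis `(hC)` of the sub-amalgam induction
(`Helper59.Amal.subQuot`) in the concrete residual configuration.

`P₁, P₂` parabolics with `T = P₁ ∩ P₂`, `Q_i = O₂(P_i)`, `D = Q₁ ⊓ Q₂` normal in `P₁`,
`L ≤ P₁` of index 2 with `O₂(L) = D`, `g ∈ P₂ \ T`, `K ≤ D ⊓ g D g⁻¹` normalized by `L`.
Then `C_L(D/K) ≤ D`.
-/
import Mathlib
import Cfsg.Agent.Lib.Helper71.Sym.BDefs
import Cfsg.Agent.Lib.Helper35.Amal.Endgame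

set_option autoImplicit false

namespace Cfsg.Agent.Lib.Helper66.Amal

open Cfsg.Agent.Lib.Helper71.Sym Cfsg.Agent.Lib.Helper35.Amal

universe u

variable {G : Type u} [Group G]

/-- `LAmal` gives `S3Loc`. -/
theorem s3Loc_of_lamal {H T Q : Subgroup G} (hA : LAmal H T Q) : S3Loc H T Q :=
  ⟨hA.hQT, hA.hTH, hA.hQn, hA.fin, hA.hT2, hA.hTQ, hA.hHT, hA.hTn, hA.hCQ⟩

/-- The three left cosets `T`, `gT`, `xgT` cover `H`. -/
theorem lamal_cover {H T Q : Subgroup G} (hA : LAmal H T Q) {g x : G} (hg : g ∈ H) (hgT : g ∉ T)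
    (hx : x ∈ T) (hxQ : x ∉ Q) :
    ∀ h ∈ H, h ∈ T ∨ g⁻¹ * h ∈ T ∨ g⁻¹ * x⁻¹ * h ∈ T := by
  classical
  have hS := s3Loc_of_lamal hA
  have hfin := hA.fin
  have hidx : (T.subgroupOf H).index = 3 := hS.relTH
  have hcard : Nat.card (↥H ⧸ T.subgroupOf H) = 3 := by
    rw [← Subgroup.index_eq_card]; exact hidx
  let _ : Fintype (↥H ⧸ T.subgroupOf H) := Fintype.ofFinite _
  have h3 : Fintype.card (↥H ⧸ T.subgroupOf H) = 3 := by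
    rw [← Nat.card_eq_fintype_card]; exact hcard
  have hxH : x ∈ H := hA.hTH hx
  have hxg : x * g ∈ H := H.mul_mem hxH hg
  set a : ↥H ⧸ T.subgroupOf H := QuotientGroup.mk (1 : ↥H) with ha
  set b : ↥H ⧸ T.subgroupOf H := QuotientGroup.mk (⟨g, hg⟩ : ↥H) with hb
  set c : ↥H ⧸ T.subgroupOf H := QuotientGroup.mk (⟨x * g, hxg⟩ : ↥H) with hc
  have hab : a ≠ b := by
    intro h
    rw [ha, hb, QuotientGroup.eq, Subgroup.mem_subgroupOf] at h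
    apply hgT
    simpa using h
  have hac : a ≠ c := by
    intro h
    rw [ha, hc, QuotientGroup.eq, Subgroup.mem_subgroupOf] at h
    apply hgT
    have h1 : x * g ∈ T := by simpa using h
    have h2 := T.mul_mem (T.inv_mem hx) h1
    simpa using h2
  have hbc : b ≠ c := by
    intro h
    rw [hb, hc, QuotientGroup.eq, Subgroup.mem_subgroupOf] at h
    have h1 : g⁻¹ * x * g⁻¹⁻¹ ∈ T := by
      simpa [mul_assoc] using h
    have h2 := hS.inter g⁻¹ (H.inv_mem hg) (fun h' => hgT (by simpa using T.inv_mem h')) x hx h1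
    exact hxQ h2
  have huniv : ({a, b, c} : Finset (↥H ⧸ T.subgroupOf H)) = Finset.univ := by
    apply Finset.eq_univ_of_card
    rw [h3, Finset.card_insert_of_notMem, Finset.card_insert_of_notMem, Finset.card_singleton]
    · simpa using hbc
    · simp only [Finset.mem_insert, Finset.mem_singleton, not_or]
      exact ⟨hab, hac⟩
  intro h hh
  have hmem : (QuotientGroup.mk (⟨h, hh⟩ : ↥H) : ↥H ⧸ T.subgroupOf H) ∈
      ({a, b, c} : Finset (↥H ⧸ T.subgroupOf H)) := by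
    rw [huniv]; exact Finset.mem_univ _
  simp only [Finset.mem_insert, Finset.mem_singleton] at hmem
  rcases hmem with h1 | h1 | h1
  · left
    rw [ha, eq_comm, QuotientGroup.eq, Subgroup.mem_subgroupOf] at h1
    simpa using h1
  · right; left
    rw [hb, eq_comm, QuotientGroup.eq, Subgroup.mem_subgroupOf] at h1
    simpa using h1
  · right; right
    rw [hc, eq_comm, QuotientGroup.eq, Subgroup.mem_subgroupOf] at h1
    simpa [mul_assoc] using h1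

/-- The subgroup `C_L(D/K)`. -/
def cDK (L D K : Subgroup G) (hDL : ∀ l ∈ L, ∀ d ∈ D, l * d * l⁻¹ ∈ D)
    (hKL : ∀ l ∈ L, ∀ k ∈ K, l * k * l⁻¹ ∈ K) : Subgroup G where
  carrier := {h | h ∈ L ∧ ∀ d ∈ D, h * d * h⁻¹ * d⁻¹ ∈ K}
  mul_mem' := by
    rintro a b ⟨haL, ha⟩ ⟨hbL, hb⟩
    refine ⟨L.mul_mem haL hbL, fun d hd => ?_⟩
    have e : a * b * d * (a * b)⁻¹ * d⁻¹ = a * (b * d * b⁻¹ * d⁻¹) * a⁻¹ * (a * d * a⁻¹ * d⁻¹) := by
      group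
    rw [e]
    exact K.mul_mem (hKL a haL _ (hb d hd)) (ha d hd)
  one_mem' := ⟨L.one_mem, fun d _ => by simp⟩
  inv_mem' := by
    rintro a ⟨haL, ha⟩
    refine ⟨L.inv_mem haL, fun d hd => ?_⟩
    have hd' : a⁻¹ * d * a ∈ D := by
      have := hDL a⁻¹ (L.inv_mem haL) d hd
      rwa [inv_inv] at this
    have h1 := K.inv_mem (ha _ hd')
    have e : a⁻¹ * d * a⁻¹⁻¹ * d⁻¹ = (a * (a⁻¹ * d * a) * a⁻¹ * (a⁻¹ * d * a)⁻¹)⁻¹ := by group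
    rw [e]
    exact h1

theorem mem_cDK {L D K : Subgroup G} {hDL : ∀ l ∈ L, ∀ d ∈ D, l * d * l⁻¹ ∈ D}
    {hKL : ∀ l ∈ L, ∀ k ∈ K, l * k * l⁻¹ ∈ K} {h : G} :
    h ∈ cDK L D K hDL hKL ↔ h ∈ L ∧ ∀ d ∈ D, h * d * h⁻¹ * d⁻¹ ∈ K := Iff.rfl

/-- The `P₂`-core of `D`. -/
def coreOf (P D : Subgroup G) : Subgroup G where
  carrier := {e | ∀ h ∈ P, h⁻¹ * e * h ∈ D}
  mul_mem' := by
    intro a b ha hb h hh
    have e : h⁻¹ * (a * b) * h = (h⁻¹ * a * h) * (h⁻¹ * b * h) := by group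
    rw [e]
    exact D.mul_mem (ha h hh) (hb h hh)
  one_mem' := fun h _ => by simp
  inv_mem' := by
    intro a ha h hh
    have e : h⁻¹ * a⁻¹ * h = (h⁻¹ * a * h)⁻¹ := by group
    rw [e]
    exact D.inv_mem (ha h hh)

theorem mem_coreOf {P D : Subgroup G} {e : G} : e ∈ coreOf P D ↔ ∀ h ∈ P, h⁻¹ * e * h ∈ D :=
  Iff.rfl

theorem coreOf_le (P D : Subgroup G) : coreOf P D ≤ D := by
  intro e he
  have := he 1 P.one_mem
  simpa using this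

theorem coreOf_conj {P D : Subgroup G} {p e : G} (hp : p ∈ P) (he : e ∈ coreOf P D) :
    p * e * p⁻¹ ∈ coreOf P D := by
  intro h hh
  have h1 := he (p⁻¹ * h) (P.mul_mem (P.inv_mem hp) hh)
  have e' : h⁻¹ * (p * e * p⁻¹) * h = (p⁻¹ * h)⁻¹ * e * (p⁻¹ * h) := by group
  rw [e']
  exact h1

/-- **(hC) core.**  `C_L(D/K) ≤ D` in the residual configuration. -/
theorem hC_core (P₁ P₂ T Q₁ Q₂ L K : Subgroup G) (g : G)
    (hA₁ : LAmal P₁ T Q₁) (hA₂ : LAmal P₂ T Q₂)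
    (hcore : ∀ N : Subgroup G, N ≤ T → (∀ h ∈ P₁, ∀ n ∈ N, h * n * h⁻¹ ∈ N) →
      (∀ h ∈ P₂, ∀ n ∈ N, h * n * h⁻¹ ∈ N) → N = ⊥)
    (hDn : ∀ h ∈ P₁, ∀ d ∈ Q₁ ⊓ Q₂, h * d * h⁻¹ ∈ Q₁ ⊓ Q₂)
    (hLP : L ≤ P₁) (hLn : ∀ h ∈ P₁, ∀ l ∈ L, h * l * h⁻¹ ∈ L)
    (hLcard : Nat.card ↥L = 3 * Nat.card ↥Q₂)
    (hCL : ∀ y ∈ L, (∀ d ∈ Q₁ ⊓ Q₂, y * d = d * y) → y ∈ Q₁ ⊓ Q₂)
    (hO2 : ∀ N : Subgroup G, N ≤ L → IsPGroup 2 ↥N → (∀ l ∈ L, ∀ n ∈ N, l * n * l⁻¹ ∈ N) →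
      N ≤ Q₁ ⊓ Q₂)
    (hg : g ∈ P₂) (hgT : g ∉ T)
    (hKD : K ≤ Q₁ ⊓ Q₂) (hKg : ∀ k ∈ K, g⁻¹ * k * g ∈ Q₁ ⊓ Q₂)
    (hKL : ∀ l ∈ L, ∀ k ∈ K, l * k * l⁻¹ ∈ K) :
    ∀ y ∈ L, (∀ d ∈ Q₁ ⊓ Q₂, y * d * y⁻¹ * d⁻¹ ∈ K) → y ∈ Q₁ ⊓ Q₂ := by
  classical
  intro y hyL hy
  by_contra hyD
  have hS₁ := s3Loc_of_lamal hA₁
  have hS₂ := s3Loc_of_lamal hA₂
  have hfP₁ := hA₁.fin
  have hfP₂ := hA₂.fin
  have hfT : Finite ↥T := hS₁.finT
  have hfQ₁ : Finite ↥Q₁ := hS₁.finQ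
  have hfQ₂ : Finite ↥Q₂ := hS₂.finQ
  have hfL : Finite ↥L := Finite.of_injective _ (Subgroup.inclusion_injective hLP)
  have hp2 : Fact (Nat.Prime 2) := ⟨Nat.prime_two⟩
  have hp3 : Fact (Nat.Prime 3) := ⟨Nat.prime_three⟩
  set D : Subgroup G := Q₁ ⊓ Q₂ with hD
  have hDT : D ≤ T := inf_le_left.trans hA₁.hQT
  have hDL : ∀ l ∈ L, ∀ d ∈ D, l * d * l⁻¹ ∈ D := fun l hl d hd => hDn l (hLP hl) d hd
  obtain ⟨k, hk⟩ : ∃ k, Nat.card ↥Q₂ = 2 ^ k :=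
    IsPGroup.iff_card.mp (hA₂.hT2.to_le hA₂.hQT)
  -- the subgroup `C`
  set C := cDK L D K hDL hKL with hC
  have hCL' : C ≤ L := fun h hh => hh.1
  have hyC : y ∈ C := ⟨hyL, hy⟩
  have hCn : ∀ l ∈ L, ∀ n ∈ C, l * n * l⁻¹ ∈ C := by
    rintro l hl n ⟨hnL, hn⟩
    refine ⟨L.mul_mem (L.mul_mem hl hnL) (L.inv_mem hl), fun d hd => ?_⟩
    have hd' : l⁻¹ * d * l ∈ D := by
      have := hDL l⁻¹ (L.inv_mem hl) d hd
      rwa [inv_inv] at this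
    have h1 := hKL l hl _ (hn _ hd')
    have e : l * n * l⁻¹ * d * (l * n * l⁻¹)⁻¹ * d⁻¹ =
        l * (n * (l⁻¹ * d * l) * n⁻¹ * (l⁻¹ * d * l)⁻¹) * l⁻¹ := by group
    rw [e]; exact h1
  have hfC : Finite ↥C := Finite.of_injective _ (Subgroup.inclusion_injective hCL')
  -- `3 ∣ |C|`
  have h3C : 3 ∣ Nat.card ↥C := by
    by_contra h3
    have hdvd : Nat.card ↥C ∣ 3 * 2 ^ k := by
      have := Subgroup.card_dvd_of_le hCL'
      rwa [hLcard, hk] at this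
    have hcop : Nat.Coprime (Nat.card ↥C) 3 := by
      rw [Nat.coprime_comm]; exact (Nat.Prime.coprime_iff_not_dvd Nat.prime_three).mpr h3
    have hdvd2 : Nat.card ↥C ∣ 2 ^ k := hcop.dvd_of_dvd_mul_left hdvd
    obtain ⟨j, -, hj⟩ := (Nat.dvd_prime_pow Nat.prime_two).mp hdvd2
    have hp : IsPGroup 2 ↥C := IsPGroup.of_card hj
    exact hyD (hO2 C hCL' hp hCn hyC)
  -- an element of order 3 in `C`
  obtain ⟨c', hc'⟩ := exists_prime_orderOf_dvd_card' 3 h3C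
  set c : G := (c' : G) with hcdef
  have hcC : c ∈ C := c'.2
  have hcL : c ∈ L := hCL' hcC
  have hc3 : c ^ 3 = 1 := by
    have h1 : c' ^ 3 = 1 := by rw [← hc']; exact pow_orderOf_eq_one c'
    have h2 := congrArg (Subtype.val) h1
    simpa using h2
  have hc1 : c ≠ 1 := by
    intro h
    have h1 : c' = 1 := Subtype.ext h
    rw [h1, orderOf_one] at hc'
    norm_num at hc'
  -- every `ρ ∈ L` with `ρ ^ 3 = 1` lies in `C`
  have hall : ∀ ρ ∈ L, ρ ^ 3 = 1 → ρ ∈ C := by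
    intro ρ hρL hρ3
    have hN : (C.subgroupOf L).Normal := by
      constructor
      intro n hn l
      rw [Subgroup.mem_subgroupOf] at hn ⊢
      exact hCn l l.2 n hn
    have hcardC : Nat.card ↥(C.subgroupOf L) = Nat.card ↥C :=
      Nat.card_congr (Subgroup.subgroupOfEquivOfLe hCL').toEquiv
    have hmul := Subgroup.card_eq_card_quotient_mul_card_subgroup (C.subgroupOf L)
    rw [hcardC, hLcard, hk] at hmul
    obtain ⟨m, hm⟩ := h3C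
    rw [hm] at hmul
    have hq : Nat.card (↥L ⧸ C.subgroupOf L) ∣ 2 ^ k := by
      refine ⟨m, ?_⟩
      have : 3 * 2 ^ k = 3 * (Nat.card (↥L ⧸ C.subgroupOf L) * m) := by rw [hmul]; ring
      exact Nat.eq_of_mul_eq_mul_left (by norm_num) this
    obtain ⟨j, -, hj⟩ := (Nat.dvd_prime_pow Nat.prime_two).mp hq
    set q : ↥L ⧸ C.subgroupOf L := QuotientGroup.mk (⟨ρ, hρL⟩ : ↥L) with hqdef
    have hq3 : q ^ 3 = 1 := by
      rw [hqdef, ← QuotientGroup.mk_pow]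
      have h1 : (⟨ρ, hρL⟩ : ↥L) ^ 3 = 1 := Subtype.ext (by simpa using hρ3)
      rw [h1]; rfl
    have hq2 : q ^ (2 ^ j) = 1 := by
      rw [← hj]; exact pow_card_eq_one'
    have ho1 : orderOf q ∣ 3 := orderOf_dvd_of_pow_eq_one hq3
    have ho2 : orderOf q ∣ 2 ^ j := orderOf_dvd_of_pow_eq_one hq2
    have hcop : Nat.Coprime 3 (2 ^ j) := Nat.Coprime.pow_right j (by norm_num)
    have ho : orderOf q = 1 := Nat.eq_one_of_dvd_coprimes hcop ho1 ho2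
    rw [orderOf_eq_one_iff] at ho
    rw [hqdef, QuotientGroup.eq_one_iff, Subgroup.mem_subgroupOf] at ho
    exact ho
  have hgen : ∀ ρ ∈ L, ρ ^ 3 = 1 → ∀ d ∈ D, ρ * d * ρ⁻¹ * d⁻¹ ∈ K :=
    fun ρ hρL hρ3 d hd => (hall ρ hρL hρ3).2 d hd
  -- an element `x ∈ Q₁ \ Q₂`
  obtain ⟨x, hxQ₁, hxQ₂⟩ : ∃ x ∈ Q₁, x ∉ Q₂ := by
    by_contra hcon
    push Not at hcon
    have hle : Q₁ ≤ Q₂ := hcon
    have hcardeq : Nat.card ↥Q₂ ≤ Nat.card ↥Q₁ := by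
      have h1 := hA₁.hTQ
      have h2 := hA₂.hTQ
      omega
    have hQeq : Q₁ = Q₂ := Subgroup.eq_of_le_of_card_ge hle hcardeq
    have hDeq : D = Q₁ := by rw [hD, ← hQeq]; exact inf_idem _
    have hbot : Q₁ = ⊥ := hcore Q₁ hA₁.hQT hA₁.hQn (by rw [hQeq]; exact hA₂.hQn)
    have h1 : c ∈ D := hCL c hcL (by
      intro d hd
      rw [hDeq, hbot, Subgroup.mem_bot] at hd
      rw [hd]; simp)
    rw [hDeq, hbot, Subgroup.mem_bot] at h1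
    exact hc1 h1
  have hxT : x ∈ T := hA₁.hQT hxQ₁
  have hTP₁ : T ≤ P₁ := hA₁.hTH
  have hxP₁ : x ∈ P₁ := hTP₁ hxT
  have hgenconj : ∀ p ∈ P₁, ∀ ρ ∈ L, ρ ^ 3 = 1 → ∀ d ∈ D,
      p⁻¹ * (ρ * d * ρ⁻¹ * d⁻¹) * p ∈ K := by
    intro p hp ρ hρL hρ3 d hd
    have hρ' : p⁻¹ * ρ * p ∈ L := by
      have := hLn p⁻¹ (P₁.inv_mem hp) ρ hρL
      rwa [inv_inv] at this
    have hρ'3 : (p⁻¹ * ρ * p) ^ 3 = 1 := by
      have e : (p⁻¹ * ρ * p) ^ 3 = p⁻¹ * ρ ^ 3 * p := by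
        simp only [pow_succ, pow_zero, one_mul]; group
      rw [e, hρ3]; group
    have hd' : p⁻¹ * d * p ∈ D := by
      have := hDn p⁻¹ (P₁.inv_mem hp) d hd
      rwa [inv_inv] at this
    have h1 := hgen _ hρ' hρ'3 _ hd'
    have e : p⁻¹ * (ρ * d * ρ⁻¹ * d⁻¹) * p =
        (p⁻¹ * ρ * p) * (p⁻¹ * d * p) * (p⁻¹ * ρ * p)⁻¹ * (p⁻¹ * d * p)⁻¹ := by group
    rw [e]; exact h1
  have hcov := lamal_cover hA₂ hg hgT hxT hxQ₂
  have hDconj : ∀ t ∈ T, ∀ e ∈ D, t⁻¹ * e * t ∈ D := by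
    intro t ht e he
    have := hDn t⁻¹ (P₁.inv_mem (hTP₁ ht)) e he
    rwa [inv_inv] at this
  have hE : ∀ ρ ∈ L, ρ ^ 3 = 1 → ∀ d ∈ D, ρ * d * ρ⁻¹ * d⁻¹ ∈ coreOf P₂ D := by
    intro ρ hρL hρ3 d hd h hh
    rcases hcov h hh with h1 | h1 | h1
    · exact hKD (hgenconj h (hTP₁ h1) ρ hρL hρ3 d hd)
    · have h2 := hKg _ (hgen ρ hρL hρ3 d hd)
      have h3 := hDconj _ h1 _ h2
      have e : h⁻¹ * (ρ * d * ρ⁻¹ * d⁻¹) * h =
          (g⁻¹ * h)⁻¹ * (g⁻¹ * (ρ * d * ρ⁻¹ * d⁻¹) * g) * (g⁻¹ * h) := by group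
      rw [e]; exact h3
    · have h2 := hKg _ (hgenconj x hxP₁ ρ hρL hρ3 d hd)
      have h3 := hDconj _ h1 _ h2
      have e : h⁻¹ * (ρ * d * ρ⁻¹ * d⁻¹) * h =
          (g⁻¹ * x⁻¹ * h)⁻¹ * (g⁻¹ * (x⁻¹ * (ρ * d * ρ⁻¹ * d⁻¹) * x) * g) * (g⁻¹ * x⁻¹ * h) := by
        group
      rw [e]; exact h3
  -- the core `E`
  set E := coreOf P₂ D with hEdef
  have hED : E ≤ D := coreOf_le P₂ D
  have hρE : ∀ ρ ∈ L, ρ ^ 3 = 1 → ∀ e ∈ E, ρ * e * ρ⁻¹ ∈ E := by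
    intro ρ hρL hρ3 e he
    have h1 := hE ρ hρL hρ3 e (hED he)
    have e' : ρ * e * ρ⁻¹ = (ρ * e * ρ⁻¹ * e⁻¹) * e := by group
    rw [e']; exact E.mul_mem h1 he
  have hcinv3 : c⁻¹ ^ 3 = 1 := by rw [inv_pow, hc3, inv_one]
  have hcN : c ∈ Subgroup.normalizer (E : Set G) := by
    rw [Subgroup.mem_normalizer_iff]
    intro e
    refine ⟨hρE c hcL hc3 e, fun he => ?_⟩
    have h1 := hρE c⁻¹ (L.inv_mem hcL) hcinv3 _ he
    have e' : c⁻¹ * (c * e * c⁻¹) * c⁻¹⁻¹ = e := by group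
    rwa [e'] at h1
  have hTN : T ≤ Subgroup.normalizer (E : Set G) := by
    intro t ht
    rw [Subgroup.mem_normalizer_iff]
    intro e
    refine ⟨fun he => coreOf_conj (hA₂.hTH ht) he, fun he => ?_⟩
    have h1 := coreOf_conj (P₂.inv_mem (hA₂.hTH ht)) he
    have e' : t⁻¹ * (t * e * t⁻¹) * t⁻¹⁻¹ = e := by group
    rwa [e'] at h1
  have hcT : c ∉ T := by
    intro hcT
    obtain ⟨n, hn⟩ := hA₁.hT2 ⟨c, hcT⟩
    have hn' : c ^ (2 ^ n) = 1 := by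
      have h1 := congrArg Subtype.val hn
      simpa using h1
    have ho1 : orderOf c ∣ 3 := orderOf_dvd_of_pow_eq_one hc3
    have ho2 : orderOf c ∣ 2 ^ n := orderOf_dvd_of_pow_eq_one hn'
    have hcop : Nat.Coprime 3 (2 ^ n) := Nat.Coprime.pow_right n (by norm_num)
    have ho : orderOf c = 1 := Nat.eq_one_of_dvd_coprimes hcop ho1 ho2
    exact hc1 (orderOf_eq_one_iff.mp ho)
  have hP₁N : P₁ ≤ Subgroup.normalizer (E : Set G) := hS₁.gen hTN (hLP hcL) hcN hcT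
  have hEbot : E = ⊥ := by
    apply hcore E (hED.trans hDT)
    · intro h hh n hn
      exact (Subgroup.mem_normalizer_iff.mp (hP₁N hh) n).mp hn
    · intro h hh n hn
      exact coreOf_conj hh hn
  have hcD : c ∈ D := by
    apply hCL c hcL
    intro d hd
    have h1 := hE c hcL hc3 d hd
    rw [hEbot, Subgroup.mem_bot] at h1
    have e : c * d = (c * d * c⁻¹ * d⁻¹) * (d * c) := by group
    rw [e, h1, one_mul]
  exact hcT (hDT hcD)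

end Cfsg.Agent.Lib.Helper66.Amal
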