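/-
S2858, claim (N), step (1): the hypothesis `(hZ)` of the sub-amalgam induction
(`Helper59.Amal.subQuot`) for a pair `L`, `g L g⁻¹` swapped by `g`, with common Sylow
2-subgroup `S` and `K` the largest subgroup of `S` normalized by both.
-/
import Mathlib

set_option autoImplicit false

namespace Cfsg.Agent.Lib.Helper66.Amal

universe u

variable {G : Type u} [Group G]

/-- The preimage in `S` of `Ω₁ Z(S/K)`. -/
def omZK (S K : Subgroup G) (hKn : ∀ s ∈ S, ∀ k ∈ K, s * k * s⁻¹ ∈ K) : Subgroup G where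
  carrier := {z | z ∈ S ∧ z * z ∈ K ∧ ∀ s ∈ S, z * s * z⁻¹ * s⁻¹ ∈ K}
  mul_mem' := by
    rintro a b ⟨haS, ha2, ha⟩ ⟨hbS, hb2, hb⟩
    refine ⟨S.mul_mem haS hbS, ?_, fun s hs => ?_⟩
    · have h1 : a⁻¹ * (b * a * b⁻¹ * a⁻¹) * a⁻¹⁻¹ ∈ K := hKn a⁻¹ (S.inv_mem haS) _ (hb a haS)
      have e : a * b * (a * b) = (a * a) * (a⁻¹ * (b * a * b⁻¹ * a⁻¹) * a⁻¹⁻¹) * (b * b) := by group
      rw [e]
      exact K.mul_mem (K.mul_mem ha2 h1) hb2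
    · have h1 : a * (b * s * b⁻¹ * s⁻¹) * a⁻¹ ∈ K := hKn a haS _ (hb s hs)
      have e : a * b * s * (a * b)⁻¹ * s⁻¹ = (a * (b * s * b⁻¹ * s⁻¹) * a⁻¹) * (a * s * a⁻¹ * s⁻¹) := by
        group
      rw [e]
      exact K.mul_mem h1 (ha s hs)
  one_mem' := ⟨S.one_mem, by simp, fun s _ => by simp⟩
  inv_mem' := by
    rintro a ⟨haS, ha2, ha⟩
    refine ⟨S.inv_mem haS, ?_, fun s hs => ?_⟩
    · have e : a⁻¹ * a⁻¹ = (a * a)⁻¹ := by group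
      rw [e]
      exact K.inv_mem ha2
    · have h1 : a⁻¹ * (a * s * a⁻¹ * s⁻¹)⁻¹ * a⁻¹⁻¹ ∈ K :=
        hKn a⁻¹ (S.inv_mem haS) _ (K.inv_mem (ha s hs))
      have e : a⁻¹ * s * a⁻¹⁻¹ * s⁻¹ = a⁻¹ * (a * s * a⁻¹ * s⁻¹)⁻¹ * a⁻¹⁻¹ := by group
      rw [e]
      exact h1

theorem mem_omZK {S K : Subgroup G} {hKn : ∀ s ∈ S, ∀ k ∈ K, s * k * s⁻¹ ∈ K} {z : G} :
    z ∈ omZK S K hKn ↔ z ∈ S ∧ z * z ∈ K ∧ ∀ s ∈ S, z * s * z⁻¹ * s⁻¹ ∈ K := Iff.rfl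

/-- A proper normal subgroup `K` of a finite `2`-group `S`: `Ω₁ Z(S/K) ≠ 1`. -/
theorem exists_omZK_not_mem (S K : Subgroup G) [Finite ↥S] (hS2 : IsPGroup 2 ↥S)
    (hKn : ∀ s ∈ S, ∀ k ∈ K, s * k * s⁻¹ ∈ K) (hne : ∃ s ∈ S, s ∉ K) :
    ∃ z ∈ S, z * z ∈ K ∧ (∀ s ∈ S, z * s * z⁻¹ * s⁻¹ ∈ K) ∧ z ∉ K := by
  classical
  have hp2 : Fact (Nat.Prime 2) := ⟨Nat.prime_two⟩
  have hN : (K.subgroupOf S).Normal := by
    constructor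
    intro n hn s
    rw [Subgroup.mem_subgroupOf] at hn ⊢
    exact hKn s s.2 n hn
  obtain ⟨s₀, hs₀S, hs₀K⟩ := hne
  have hnt : Nontrivial (↥S ⧸ K.subgroupOf S) := by
    refine ⟨⟨QuotientGroup.mk (⟨s₀, hs₀S⟩ : ↥S), 1, ?_⟩⟩
    intro h
    rw [QuotientGroup.eq_one_iff, Subgroup.mem_subgroupOf] at h
    exact hs₀K h
  have hpq : IsPGroup 2 (↥S ⧸ K.subgroupOf S) := hS2.to_quotient _
  have hcnt : Nontrivial (Subgroup.center (↥S ⧸ K.subgroupOf S)) := hpq.center_nontrivial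
  have hpc : IsPGroup 2 (Subgroup.center (↥S ⧸ K.subgroupOf S)) := hpq.to_subgroup _
  obtain ⟨n, hn⟩ := IsPGroup.iff_card.mp hpc
  have h2 : 2 ∣ Nat.card (Subgroup.center (↥S ⧸ K.subgroupOf S)) := by
    rw [hn]
    rcases n with _ | n
    · exfalso
      rw [pow_zero] at hn
      have := Finite.one_lt_card_iff_nontrivial.mpr hcnt
      omega
    · exact Dvd.intro_left (2 ^ n) (by ring)
  obtain ⟨w, hw⟩ := exists_prime_orderOf_dvd_card' 2 h2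
  obtain ⟨z, hz⟩ := QuotientGroup.mk_surjective (w : ↥S ⧸ K.subgroupOf S)
  have hwc : ∀ a : ↥S ⧸ K.subgroupOf S, a * (w : ↥S ⧸ K.subgroupOf S) = w * a :=
    fun a => Subgroup.mem_center_iff.mp w.2 a
  have hw2 : (w : ↥S ⧸ K.subgroupOf S) * w = 1 := by
    have h1 : w ^ 2 = 1 := by rw [← hw]; exact pow_orderOf_eq_one w
    have h2 := congrArg Subtype.val h1
    simpa [pow_two] using h2
  have hw1 : (w : ↥S ⧸ K.subgroupOf S) ≠ 1 := by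
    intro h
    have h1 : w = 1 := Subtype.ext h
    rw [h1, orderOf_one] at hw
    norm_num at hw
  refine ⟨(z : G), z.2, ?_, ?_, ?_⟩
  · have h1 : (QuotientGroup.mk (z * z) : ↥S ⧸ K.subgroupOf S) = 1 := by
      rw [QuotientGroup.mk_mul, hz]; exact hw2
    rw [QuotientGroup.eq_one_iff, Subgroup.mem_subgroupOf] at h1
    simpa using h1
  · intro s hs
    have h1 : (QuotientGroup.mk (z * ⟨s, hs⟩ * z⁻¹ * (⟨s, hs⟩ : ↥S)⁻¹) : ↥S ⧸ K.subgroupOf S) = 1 := by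
      rw [QuotientGroup.mk_mul, QuotientGroup.mk_mul, QuotientGroup.mk_mul, QuotientGroup.mk_inv,
        QuotientGroup.mk_inv, hz, ← hwc, mul_assoc (QuotientGroup.mk _) _ _, mul_inv_cancel,
        mul_one, mul_inv_cancel]
    rw [QuotientGroup.eq_one_iff, Subgroup.mem_subgroupOf] at h1
    simpa using h1
  · intro h
    apply hw1
    rw [← hz, QuotientGroup.eq_one_iff, Subgroup.mem_subgroupOf]
    exact h

/-- **(hZ) core.** -/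
theorem hZ_core (L S K : Subgroup G) (g : G) [Finite ↥S] (hS2 : IsPGroup 2 ↥S) (hSL : S ≤ L)
    (hKS : K ≤ S) (hKL : ∀ l ∈ L, ∀ k ∈ K, l * k * l⁻¹ ∈ K)
    (hgS : ∀ s : G, s ∈ S ↔ g * s * g⁻¹ ∈ S) (hgK : ∀ k : G, k ∈ K ↔ g * k * g⁻¹ ∈ K)
    (hKmax : ∀ N : Subgroup G, N ≤ S → (∀ l ∈ L, ∀ n ∈ N, l * n * l⁻¹ ∈ N) →
      (∀ l ∈ L, ∀ n ∈ N, (g * l * g⁻¹) * n * (g * l * g⁻¹)⁻¹ ∈ N) → N ≤ K)
    (hSn : ∃ l ∈ L, ∃ s ∈ S, l * s * l⁻¹ ∉ S) :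
    (∃ z ∈ S, z * z ∈ K ∧ (∀ s ∈ S, z * s * z⁻¹ * s⁻¹ ∈ K) ∧ ∃ l ∈ L, l * z * l⁻¹ * z⁻¹ ∉ K) ∧
    (∃ z ∈ S, z * z ∈ K ∧ (∀ s ∈ S, z * s * z⁻¹ * s⁻¹ ∈ K) ∧
      ∃ l ∈ L, (g * l * g⁻¹) * z * (g * l * g⁻¹)⁻¹ * z⁻¹ ∉ K) := by
  classical
  have hKn : ∀ s ∈ S, ∀ k ∈ K, s * k * s⁻¹ ∈ K := fun s hs k hk => hKL s (hSL hs) k hk
  have hgS' : ∀ s ∈ S, g⁻¹ * s * g ∈ S := by
    intro s hs
    rw [hgS]
    have e : g * (g⁻¹ * s * g) * g⁻¹ = s := by group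
    rwa [e]
  have hgK' : ∀ k ∈ K, g⁻¹ * k * g ∈ K := by
    intro k hk
    rw [hgK]
    have e : g * (g⁻¹ * k * g) * g⁻¹ = k := by group
    rwa [e]
  have hfirst : ∃ z ∈ S, z * z ∈ K ∧ (∀ s ∈ S, z * s * z⁻¹ * s⁻¹ ∈ K) ∧
      ∃ l ∈ L, l * z * l⁻¹ * z⁻¹ ∉ K := by
    by_contra hcon
    push Not at hcon
    set N := omZK S K hKn with hNdef
    have hNS : N ≤ S := fun z hz => hz.1
    have hKN : K ≤ N := by
      intro k hk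
      refine ⟨hKS hk, K.mul_mem hk hk, fun s hs => ?_⟩
      have h1 := K.inv_mem (hKn s hs k hk)
      have e : k * s * k⁻¹ * s⁻¹ = k * (s * k * s⁻¹)⁻¹ := by group
      rw [e]
      exact K.mul_mem hk h1
    have hNL : ∀ l ∈ L, ∀ n ∈ N, l * n * l⁻¹ ∈ N := by
      intro l hl n hn
      have h1 := hcon n hn.1 hn.2.1 hn.2.2 l hl
      have e : l * n * l⁻¹ = (l * n * l⁻¹ * n⁻¹) * n := by group
      rw [e]
      exact N.mul_mem (hKN h1) hn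
    have hNg : ∀ n ∈ N, g * n * g⁻¹ ∈ N := by
      rintro n ⟨hnS, hn2, hn⟩
      refine ⟨(hgS n).mp hnS, ?_, fun s hs => ?_⟩
      · have e : g * n * g⁻¹ * (g * n * g⁻¹) = g * (n * n) * g⁻¹ := by group
        rw [e]
        exact (hgK _).mp hn2
      · have h1 := (hgK _).mp (hn _ (hgS' s hs))
        have e : g * n * g⁻¹ * s * (g * n * g⁻¹)⁻¹ * s⁻¹ =
            g * (n * (g⁻¹ * s * g) * n⁻¹ * (g⁻¹ * s * g)⁻¹) * g⁻¹ := by group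
        rw [e]
        exact h1
    have hNg' : ∀ n ∈ N, g⁻¹ * n * g ∈ N := by
      rintro n ⟨hnS, hn2, hn⟩
      refine ⟨hgS' n hnS, ?_, fun s hs => ?_⟩
      · have e : g⁻¹ * n * g * (g⁻¹ * n * g) = g⁻¹ * (n * n) * g := by group
        rw [e]
        exact hgK' _ hn2
      · have h1 := hgK' _ (hn _ ((hgS s).mp hs))
        have e : g⁻¹ * n * g * s * (g⁻¹ * n * g)⁻¹ * s⁻¹ =
            g⁻¹ * (n * (g * s * g⁻¹) * n⁻¹ * (g * s * g⁻¹)⁻¹) * g := by group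
        rw [e]
        exact h1
    have hNgL : ∀ l ∈ L, ∀ n ∈ N, (g * l * g⁻¹) * n * (g * l * g⁻¹)⁻¹ ∈ N := by
      intro l hl n hn
      have h1 := hNg _ (hNL l hl _ (hNg' n hn))
      have e : (g * l * g⁻¹) * n * (g * l * g⁻¹)⁻¹ = g * (l * (g⁻¹ * n * g) * l⁻¹) * g⁻¹ := by group
      rw [e]
      exact h1
    have hNK : N ≤ K := hKmax N hNS hNL hNgL
    have hne : ∃ s ∈ S, s ∉ K := by
      by_contra hc
      push Not at hc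
      obtain ⟨l, hl, s, hs, hls⟩ := hSn
      exact hls (hKS (hKL l hl s (hc s hs)))
    obtain ⟨z, hzS, hz2, hzc, hzK⟩ := exists_omZK_not_mem S K hS2 hKn hne
    exact hzK (hNK ⟨hzS, hz2, hzc⟩)
  refine ⟨hfirst, ?_⟩
  obtain ⟨z, hzS, hz2, hzc, l, hl, hlz⟩ := hfirst
  refine ⟨g * z * g⁻¹, (hgS z).mp hzS, ?_, fun s hs => ?_, l, hl, ?_⟩
  · have e : g * z * g⁻¹ * (g * z * g⁻¹) = g * (z * z) * g⁻¹ := by group
    rw [e]
    exact (hgK _).mp hz2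
  · have h1 := (hgK _).mp (hzc _ (hgS' s hs))
    have e : g * z * g⁻¹ * s * (g * z * g⁻¹)⁻¹ * s⁻¹ =
        g * (z * (g⁻¹ * s * g) * z⁻¹ * (g⁻¹ * s * g)⁻¹) * g⁻¹ := by group
    rw [e]
    exact h1
  · intro h
    apply hlz
    rw [hgK]
    have e : g * (l * z * l⁻¹ * z⁻¹) * g⁻¹ =
        (g * l * g⁻¹) * (g * z * g⁻¹) * (g * l * g⁻¹)⁻¹ * (g * z * g⁻¹)⁻¹ := by group
    rw [e]
    exact h

end Cfsg.Agent.Lib.Helper66.Amal
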